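import Mathlib

/-!
Tools for semiregular elements of prime order in transitive permutation groups
(used for the 2-closed groups of degree `2p²`).
-/

set_option autoImplicit false

namespace Cfsg.Agent.Lib.Helper41.Perm2C

/-- A non-trivial normal subgroup of a finite `p`-group contains a central element of order `p`. -/
theorem exists_central_of_normal {Q : Type*} [Group Q] [Finite Q] {p : ℕ} [Fact p.Prime]
    (hQ : IsPGroup p Q) (N : Subgroup Q) [N.Normal] (hN : N ≠ ⊥) :
    ∃ x ∈ N, x ∈ Subgroup.center Q ∧ orderOf x = p := by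
  classical
  let _ : MulAction Q ↥N := MulAction.compHom ↥N (MulAut.conjNormal (H := N))
  have hsmul : ∀ (g : Q) (n : ↥N), ((g • n : ↥N) : Q) = g * n * g⁻¹ := by
    intro g n
    exact MulAut.conjNormal_apply g n
  have hpN : p ∣ Nat.card ↥N := by
    rcases (hQ.to_subgroup N).card_eq_or_dvd with h | h
    · exact absurd ((Subgroup.card_eq_one).1 h) hN
    · exact h
  have h1 : (1 : ↥N) ∈ MulAction.fixedPoints Q ↥N := by
    intro g
    apply Subtype.ext
    rw [hsmul]
    simp
  obtain ⟨y, hy, hy1⟩ := hQ.exists_fixed_point_of_prime_dvd_card_of_fixed_point (α := ↥N) hpN h1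
  have hyc : (y : Q) ∈ Subgroup.center Q := by
    rw [Subgroup.mem_center_iff]
    intro g
    have h2 := congrArg Subtype.val (hy g)
    rw [hsmul] at h2
    calc g * (y : Q) = g * y * g⁻¹ * g := by group
      _ = y * g := by rw [h2]
  have hC : (N ⊓ Subgroup.center Q) ≠ ⊥ := by
    intro hbot
    have hmem : (y : Q) ∈ N ⊓ Subgroup.center Q := ⟨y.2, hyc⟩
    rw [hbot, Subgroup.mem_bot] at hmem
    exact hy1 (Subtype.ext hmem.symm)
  have hpC : p ∣ Nat.card ↥(N ⊓ Subgroup.center Q) := by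
    rcases (hQ.to_subgroup (N ⊓ Subgroup.center Q)).card_eq_or_dvd with h | h
    · exact absurd ((Subgroup.card_eq_one).1 h) hC
    · exact h
  obtain ⟨x, hx⟩ := exists_prime_orderOf_dvd_card' p hpC
  refine ⟨x.1, x.2.1, x.2.2, ?_⟩
  rw [← hx]
  exact (Subgroup.orderOf_coe x)

/-- Orbits of a Sylow `p`-subgroup of a transitive group have length divisible by the `p`-part of
the degree. -/
theorem sylow_orbit_dvd {G Ω : Type*} [Group G] [Finite G] [MulAction G Ω]
    [MulAction.IsPretransitive G Ω] [Finite Ω] {p : ℕ} [Fact p.Prime] (P : Sylow p G) (ω : Ω)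
    (k : ℕ) (h : p ^ k ∣ Nat.card Ω) :
    p ^ k ∣ (MulAction.orbit (↥(P : Subgroup G)) ω).ncard := by
  classical
  set S : Subgroup G := MulAction.stabilizer G ω with hS
  have h1 : MulAction.stabilizer (↥(P : Subgroup G)) ω = S.subgroupOf (P : Subgroup G) := by
    ext x
    rw [MulAction.mem_stabilizer_iff, Subgroup.mem_subgroupOf, hS, MulAction.mem_stabilizer_iff]
    rfl
  have h2 : (MulAction.orbit (↥(P : Subgroup G)) ω).ncard = S.relIndex (P : Subgroup G) := by
    rw [← MulAction.index_stabilizer, h1]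
    rfl
  rw [h2]
  have h3 : S.relIndex (P : Subgroup G) * (P : Subgroup G).index = (S ⊓ (P : Subgroup G)).index := by
    rw [← Subgroup.inf_relIndex_right]
    exact Subgroup.relIndex_mul_index inf_le_right
  have h4 : (P : Subgroup G).relIndex S * S.index = (S ⊓ (P : Subgroup G)).index := by
    rw [← Subgroup.inf_relIndex_left]
    exact Subgroup.relIndex_mul_index inf_le_left
  have h5 : S.index = Nat.card Ω := MulAction.index_stabilizer_of_transitive G ω
  have h6 : p ^ k ∣ S.relIndex (P : Subgroup G) * (P : Subgroup G).index := by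
    rw [h3, ← h4, h5]
    exact Dvd.dvd.mul_left h _
  have hcop : Nat.Coprime (p ^ k) (P : Subgroup G).index :=
    Nat.Coprime.pow_left k ((Nat.Prime.coprime_iff_not_dvd (Fact.out : p.Prime)).2 P.not_dvd_index)
  exact hcop.dvd_of_dvd_mul_right h6

/-- The key element: a finite `p`-group `H` acts on `Ω`; a central element `z` of order `p` fixes
`a` and moves `b`, and the orbits of `a` and `b` have length `p²`.  Then some `u ∈ H` acts on the
orbit of `b` "like powers of `z`" pointwise, has no fixed point on the orbit of `a`, and `u ^ p`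
is trivial on the orbit of `a`. -/
theorem exists_u {H Ω : Type*} [Group H] [Finite H] [MulAction H Ω] {p : ℕ} [Fact p.Prime]
    (hH : IsPGroup p H) (z : H) (hz : z ∈ Subgroup.center H) (hzp : orderOf z = p) (a b : Ω)
    (hzb : z • b ≠ b)
    (ha : (MulAction.orbit H a).ncard = p ^ 2) (hb : (MulAction.orbit H b).ncard = p ^ 2) :
    ∃ u : H, (∀ w : H, ∃ j : ℤ, u • (w • b) = z ^ j • (w • b)) ∧ (∀ w : H, u • (w • a) ≠ w • a) ∧
      (∀ w : H, u ^ p • (w • a) = w • a) := by
  classical
  have hp : p.Prime := Fact.out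
  have hzjc : ∀ (j : ℤ) (g : H), g * z ^ j = z ^ j * g := fun j g =>
    Subgroup.mem_center_iff.1 (Subgroup.zpow_mem _ hz j) g
  -- the subgroup `M` of elements mapping `b` into its `⟨z⟩`-orbit
  let M : Subgroup H :=
    { carrier := {u | ∃ j : ℤ, u • b = z ^ j • b}
      one_mem' := ⟨0, by simp⟩
      mul_mem' := by
        rintro u v ⟨i, hi⟩ ⟨j, hj⟩
        refine ⟨j + i, ?_⟩
        rw [mul_smul, hj, ← mul_smul, hzjc, mul_smul, hi, ← mul_smul, ← zpow_add]
      inv_mem' := by
        rintro u ⟨i, hi⟩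
        refine ⟨-i, ?_⟩
        have h1 : b = u⁻¹ • (z ^ i • b) := by rw [← hi, inv_smul_smul]
        rw [← mul_smul, hzjc, mul_smul] at h1
        rw [zpow_neg, eq_inv_smul_iff]
        exact h1.symm }
  have hMmem : ∀ u : H, u ∈ M ↔ ∃ j : ℤ, u • b = z ^ j • b := fun u => Iff.rfl
  have hle : MulAction.stabilizer H b ≤ M := by
    intro u hu
    rw [MulAction.mem_stabilizer_iff] at hu
    exact (hMmem u).2 ⟨0, by simpa using hu⟩
  -- index of `M`
  have hstab : MulAction.stabilizer (↥M) b = (MulAction.stabilizer H b).subgroupOf M := by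
    ext x
    rw [MulAction.mem_stabilizer_iff, Subgroup.mem_subgroupOf, MulAction.mem_stabilizer_iff]
    rfl
  have horb : (MulAction.orbit (↥M) b) = MulAction.orbit (↥(Subgroup.zpowers z)) b := by
    ext y
    constructor
    · rintro ⟨m, rfl⟩
      obtain ⟨j, hj⟩ := (hMmem m.1).1 m.2
      exact ⟨⟨z ^ j, Subgroup.zpow_mem_zpowers z j⟩, hj.symm⟩
    · rintro ⟨x, rfl⟩
      obtain ⟨j, hj⟩ := Subgroup.mem_zpowers_iff.1 x.2
      refine ⟨⟨x.1, (hMmem x.1).2 ⟨j, ?_⟩⟩, rfl⟩
      rw [hj]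
  have hzorb : (MulAction.orbit (↥(Subgroup.zpowers z)) b).ncard = p := by
    rw [← MulAction.index_stabilizer]
    have hdvd : (MulAction.stabilizer (↥(Subgroup.zpowers z)) b).index ∣ p := by
      have h1 := Subgroup.index_dvd_card (MulAction.stabilizer (↥(Subgroup.zpowers z)) b)
      rwa [Nat.card_zpowers, hzp] at h1
    rcases (Nat.dvd_prime hp).1 hdvd with h1 | h1
    · exfalso
      rw [Subgroup.index_eq_one] at h1
      have h2 : (⟨z, Subgroup.mem_zpowers z⟩ : ↥(Subgroup.zpowers z)) ∈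
          MulAction.stabilizer (↥(Subgroup.zpowers z)) b := by rw [h1]; trivial
      rw [MulAction.mem_stabilizer_iff] at h2
      exact hzb h2
    · exact h1
  have hrel : (MulAction.stabilizer H b).relIndex M = p := by
    have h1 : (MulAction.stabilizer H b).relIndex M = (MulAction.stabilizer (↥M) b).index := by
      rw [hstab]; rfl
    rw [h1, MulAction.index_stabilizer, horb, hzorb]
  have hMidx : M.index = p := by
    have h1 := Subgroup.relIndex_mul_index hle
    rw [hrel, MulAction.index_stabilizer, hb, pow_two] at h1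
    exact Nat.eq_of_mul_eq_mul_left hp.pos h1
  -- `M` is normal
  have hMn : M.Normal := by
    apply Subgroup.normal_of_index_eq_minFac_card
    obtain ⟨n, hn⟩ := IsPGroup.iff_card.1 hH
    have hn0 : n ≠ 0 := by
      rintro rfl
      have h1 : M.index ∣ Nat.card H := Subgroup.index_dvd_card M
      rw [hMidx, hn, pow_zero] at h1
      exact hp.one_lt.ne' (Nat.dvd_one.1 h1)
    rw [hMidx, hn, Nat.Prime.pow_minFac hp hn0]
  -- the kernel `K` of the action on the orbit of `a`
  set K : Subgroup H := (MulAction.stabilizer H a).normalCore with hKdef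
  have hK : ∀ k ∈ K, ∀ w : H, k • (w • a) = w • a := by
    intro k hk w
    have h1 : w⁻¹ * k * w⁻¹⁻¹ ∈ MulAction.stabilizer H a := hk w⁻¹
    rw [MulAction.mem_stabilizer_iff] at h1
    calc k • (w • a) = w • ((w⁻¹ * k * w⁻¹⁻¹) • a) := by simp [mul_smul]
      _ = w • a := by rw [h1]
  have hK' : ∀ k : H, (∀ w : H, k • (w • a) = w • a) → k ∈ K := by
    intro k hk v
    rw [MulAction.mem_stabilizer_iff, mul_smul, mul_smul, hk, smul_inv_smul]
  have hKle : K ≤ MulAction.stabilizer H a := Subgroup.normalCore_le _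
  -- the image of `M` in `H ⧸ K` is a non-trivial normal subgroup
  have hMK : ¬ M ≤ K := by
    intro h
    have h1 : (MulAction.stabilizer H a).index ∣ M.index := Subgroup.index_dvd_of_le (h.trans hKle)
    rw [MulAction.index_stabilizer, ha, hMidx] at h1
    have h2 : p ^ 2 ≤ p := Nat.le_of_dvd hp.pos h1
    nlinarith [hp.one_lt]
  have hMbar : (M.map (QuotientGroup.mk' K)) ≠ ⊥ := by
    intro h
    rw [Subgroup.map_eq_bot_iff, QuotientGroup.ker_mk'] at h
    exact hMK h
  have : (M.map (QuotientGroup.mk' K)).Normal :=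
    Subgroup.Normal.map hMn _ (QuotientGroup.mk'_surjective K)
  obtain ⟨x, hxM, hxc, hxo⟩ :=
    exists_central_of_normal (hH.to_quotient K) (M.map (QuotientGroup.mk' K)) hMbar
  obtain ⟨u, huM, rfl⟩ := Subgroup.mem_map.1 hxM
  refine ⟨u, ?_, ?_, ?_⟩
  · intro w
    have h1 : w⁻¹ * u * w⁻¹⁻¹ ∈ M := hMn.conj_mem u huM w⁻¹
    obtain ⟨j, hj⟩ := (hMmem _).1 h1
    refine ⟨j, ?_⟩
    calc u • (w • b) = w • ((w⁻¹ * u * w⁻¹⁻¹) • b) := by simp [mul_smul]
      _ = w • (z ^ j • b) := by rw [hj]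
      _ = z ^ j • (w • b) := by rw [← mul_smul, hzjc, mul_smul]
  · intro w hw
    have huK : u ∈ K := by
      apply hK'
      intro t
      have h1 := Subgroup.mem_center_iff.1 hxc (QuotientGroup.mk' K (t * w⁻¹))
      rw [← map_mul, ← map_mul] at h1
      have h2 : ((t * w⁻¹) * u)⁻¹ * (u * (t * w⁻¹)) ∈ K := QuotientGroup.eq.1 h1
      have h3 := hK _ h2 w
      have h4 : u * (t * w⁻¹) = (t * w⁻¹) * u * (((t * w⁻¹) * u)⁻¹ * (u * (t * w⁻¹))) := by group
      calc u • (t • a) = (u * (t * w⁻¹)) • (w • a) := by simp [mul_smul]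
        _ = ((t * w⁻¹) * u * (((t * w⁻¹) * u)⁻¹ * (u * (t * w⁻¹)))) • (w • a) := by rw [← h4]
        _ = (t * w⁻¹) • (u • ((((t * w⁻¹) * u)⁻¹ * (u * (t * w⁻¹))) • (w • a))) := by
            rw [mul_smul, mul_smul]
        _ = (t * w⁻¹) • (u • (w • a)) := by rw [h3]
        _ = (t * w⁻¹) • (w • a) := by rw [hw]
        _ = t • a := by simp [mul_smul]
    have h5 : QuotientGroup.mk' K u = 1 := (QuotientGroup.eq_one_iff u).2 huK
    rw [h5, orderOf_one] at hxo
    exact hp.one_lt.ne' hxo.symm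
  · intro w
    have h1 : (QuotientGroup.mk' K u) ^ p = 1 := by rw [← hxo]; exact pow_orderOf_eq_one _
    rw [← map_pow] at h1
    have h2 : u ^ p ∈ K := (QuotientGroup.eq_one_iff _).1 h1
    exact hK _ h2 w

/-- A transitive 2-closed permutation group of degree `2p²` contains a fixed-point-free element of
prime order (Marušič–Scapellato). -/
theorem two_closed_two_p_sq {G Ω : Type*} [Group G] [Finite G] [MulAction G Ω] [FaithfulSMul G Ω]
    [Finite Ω] (htrans : MulAction.IsPretransitive G Ω) (p : ℕ) (hp : p.Prime)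
    (hcard : Nat.card Ω = 2 * p ^ 2)
    (hcl : ∀ σ : Equiv.Perm Ω, (∀ a b : Ω, ∃ g : G, σ a = g • a ∧ σ b = g • b) →
      ∃ g : G, ∀ a : Ω, σ a = g • a) :
    ∃ g : G, (orderOf g).Prime ∧ ∀ ω : Ω, g • ω ≠ ω := by
  classical
  have : Fact p.Prime := ⟨hp⟩
  obtain ⟨P⟩ : Nonempty (Sylow p G) := inferInstance
  have hH : IsPGroup p ↥(P : Subgroup G) := P.isPGroup'
  have hdiv : ∀ ω : Ω, p ^ 2 ∣ (MulAction.orbit (↥(P : Subgroup G)) ω).ncard := fun ω =>
    sylow_orbit_dvd P ω 2 (by rw [hcard]; exact Dvd.intro_left 2 rfl)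
  have hp2 : 1 < p ^ 2 := by nlinarith [hp.one_lt]
  have hΩ : Nonempty Ω := by
    rw [← Finite.card_pos_iff, hcard]
    positivity
  obtain ⟨ω0⟩ := hΩ
  have hpos : ∀ ω : Ω, 0 < (MulAction.orbit (↥(P : Subgroup G)) ω).ncard := fun ω =>
    (Set.ncard_pos (Set.toFinite _)).2 (MulAction.nonempty_orbit ω)
  have hge : ∀ ω : Ω, p ^ 2 ≤ (MulAction.orbit (↥(P : Subgroup G)) ω).ncard := fun ω =>
    Nat.le_of_dvd (hpos ω) (hdiv ω)
  have hnt : Nontrivial ↥(P : Subgroup G) := by
    by_contra hnt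
    rw [not_nontrivial_iff_subsingleton] at hnt
    have h1 : (MulAction.orbit (↥(P : Subgroup G)) ω0) = {ω0} := by
      ext y
      constructor
      · rintro ⟨m, rfl⟩
        have hm : m = 1 := Subsingleton.elim m 1
        simp [hm]
      · rintro rfl
        exact MulAction.mem_orbit_self _
    have h2 := hge ω0
    rw [h1, Set.ncard_singleton] at h2
    omega
  have hZnt := hH.center_nontrivial
  have hpZ : p ∣ Nat.card ↥(Subgroup.center ↥(P : Subgroup G)) := by
    rcases (hH.to_subgroup (Subgroup.center _)).card_eq_or_dvd with h | h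
    · exfalso
      have h1 := Finite.one_lt_card_iff_nontrivial.2 hZnt
      omega
    · exact h
  obtain ⟨z0, hz0⟩ := exists_prime_orderOf_dvd_card' p hpZ
  obtain ⟨z, hzc⟩ := z0
  have hzp : orderOf z = p :=
    (Subgroup.orderOf_coe (⟨z, hzc⟩ : ↥(Subgroup.center ↥(P : Subgroup G)))).trans hz0
  have hzcomm : ∀ g : ↥(P : Subgroup G), g * z = z * g := Subgroup.mem_center_iff.1 hzc
  by_cases hfix : ∀ ω : Ω, z • ω ≠ ω
  · refine ⟨(z : G), ?_, fun ω => hfix ω⟩
    rw [Subgroup.orderOf_coe, hzp]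
    exact hp
  push Not at hfix
  obtain ⟨a, hza⟩ := hfix
  have hexb : ∃ b : Ω, z • b ≠ b := by
    by_contra hall
    push Not at hall
    have h1 : (z : G) = 1 := FaithfulSMul.eq_of_smul_eq_smul (α := Ω) (fun ω => by
      rw [one_smul]; exact hall ω)
    have h2 : z = 1 := Subtype.ext h1
    rw [h2, orderOf_one] at hzp
    exact hp.one_lt.ne' hzp.symm
  obtain ⟨b, hzb⟩ := hexb
  set A : Set Ω := MulAction.orbit (↥(P : Subgroup G)) a with hA
  set B : Set Ω := MulAction.orbit (↥(P : Subgroup G)) b with hB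
  have hAfix : ∀ w : ↥(P : Subgroup G), z • (w • a) = w • a := by
    intro w
    rw [← mul_smul, ← hzcomm, mul_smul, hza]
  have hAfixj : ∀ (j : ℤ) (w : ↥(P : Subgroup G)), z ^ j • (w • a) = w • a := by
    intro j w
    have h1 : z ∈ MulAction.stabilizer (↥(P : Subgroup G)) (w • a) := hAfix w
    exact Subgroup.zpow_mem _ h1 j
  have hBmove : ∀ w : ↥(P : Subgroup G), z • (w • b) ≠ w • b := by
    intro w h
    rw [← mul_smul, ← hzcomm, mul_smul] at h
    exact hzb (smul_left_cancel w h)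
  have hAinv : ∀ (v : ↥(P : Subgroup G)) (x : Ω), x ∈ A → v • x ∈ A := by
    rintro v x ⟨w, rfl⟩
    exact ⟨v * w, mul_smul v w a⟩
  have hdisj : Disjoint A B := by
    rw [Set.disjoint_left]
    rintro x ⟨w, rfl⟩ ⟨w', hw'⟩
    have h1 := hBmove w'
    have hw'' : w' • b = w • a := hw'
    rw [hw''] at h1
    exact h1 (hAfix w)
  have hsum : A.ncard + B.ncard ≤ 2 * p ^ 2 := by
    rw [← Set.ncard_union_eq hdisj, ← hcard]
    exact Set.ncard_le_card _
  have hAc : A.ncard = p ^ 2 := by
    have h1 : p ^ 2 ≤ A.ncard := hge a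
    have h2 : p ^ 2 ≤ B.ncard := hge b
    omega
  have hBc : B.ncard = p ^ 2 := by
    have h1 : p ^ 2 ≤ A.ncard := hge a
    have h2 : p ^ 2 ≤ B.ncard := hge b
    omega
  have hcover : A ∪ B = Set.univ := by
    rw [Set.eq_univ_iff_ncard, Set.ncard_union_eq hdisj, hAc, hBc, hcard]
    ring
  have hcoverB : ∀ y : Ω, y ∉ A → ∃ w : ↥(P : Subgroup G), w • b = y := by
    intro y hy
    have h1 : y ∈ A ∪ B := by rw [hcover]; trivial
    rcases h1 with h1 | h1
    · exact absurd h1 hy
    · exact h1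
  obtain ⟨u, hu1, hu2, hu3⟩ := exists_u hH z hzc hzp a b hzb hAc hBc
  -- the permutation acting as `u` on `A` and trivially elsewhere
  let σ : Equiv.Perm Ω :=
    { toFun := fun x => if x ∈ A then u • x else x
      invFun := fun x => if x ∈ A then u⁻¹ • x else x
      left_inv := by
        intro x
        by_cases hx : x ∈ A
        · have h1 : u • x ∈ A := hAinv u x hx
          simp [hx, h1]
        · simp [hx]
      right_inv := by
        intro x
        by_cases hx : x ∈ A
        · have h1 : u⁻¹ • x ∈ A := hAinv u⁻¹ x hx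
          simp [hx, h1]
        · simp [hx] }
  have hσA : ∀ x : Ω, x ∈ A → σ x = u • x := by
    intro x hx
    show (if x ∈ A then u • x else x) = u • x
    rw [if_pos hx]
  have hσB : ∀ x : Ω, x ∉ A → σ x = x := by
    intro x hx
    show (if x ∈ A then u • x else x) = x
    rw [if_neg hx]
  have hpairs : ∀ x y : Ω, ∃ g : G, σ x = g • x ∧ σ y = g • y := by
    have key : ∀ x y : Ω, x ∈ A → y ∉ A → ∃ g : G, u • x = g • x ∧ y = g • y := by
      intro x y hx hy
      obtain ⟨w, rfl⟩ := hcoverB y hy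
      obtain ⟨j, hj⟩ := hu1 w
      refine ⟨(((z ^ j)⁻¹ * u : ↥(P : Subgroup G)) : G), ?_, ?_⟩
      · show u • x = ((z ^ j)⁻¹ * u) • x
        rw [mul_smul]
        obtain ⟨w', hw'⟩ := hAinv u x hx
        have hw'' : w' • a = u • x := hw'
        rw [← hw'', eq_inv_smul_iff]
        exact hAfixj j w'
      · show w • b = ((z ^ j)⁻¹ * u) • (w • b)
        rw [mul_smul, hj, inv_smul_smul]
    intro x y
    by_cases hx : x ∈ A <;> by_cases hy : y ∈ A
    · exact ⟨(u : G), by rw [hσA x hx]; rfl, by rw [hσA y hy]; rfl⟩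
    · obtain ⟨g, h1, h2⟩ := key x y hx hy
      exact ⟨g, by rw [hσA x hx]; exact h1, by rw [hσB y hy]; exact h2⟩
    · obtain ⟨g, h1, h2⟩ := key y x hy hx
      exact ⟨g, by rw [hσB x hx]; exact h2, by rw [hσA y hy]; exact h1⟩
    · exact ⟨1, by rw [hσB x hx, one_smul], by rw [hσB y hy, one_smul]⟩
  obtain ⟨g0, hg0⟩ := hcl σ hpairs
  have hzA : ∀ x : Ω, x ∉ A → z • x ∉ A := by
    intro x hx h
    have h1 := hAinv z⁻¹ _ h
    rw [inv_smul_smul] at h1
    exact hx h1
  have hhA : ∀ x : Ω, x ∈ A → (g0 * (z : G)) • x = u • x := by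
    intro x hx
    obtain ⟨w, rfl⟩ := hx
    have h1 : (z : G) • (w • a) = w • a := hAfix w
    rw [mul_smul, h1, ← hg0]
    exact hσA _ ⟨w, rfl⟩
  have hhB : ∀ x : Ω, x ∉ A → (g0 * (z : G)) • x = z • x := by
    intro x hx
    have h1 : (z : G) • x = z • x := rfl
    rw [mul_smul, h1, ← hg0]
    exact hσB _ (hzA x hx)
  have hfpf : ∀ ω : Ω, (g0 * (z : G)) • ω ≠ ω := by
    intro ω
    by_cases hω : ω ∈ A
    · rw [hhA ω hω]
      obtain ⟨w, rfl⟩ := hω
      exact hu2 w
    · rw [hhB ω hω]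
      obtain ⟨w, rfl⟩ := hcoverB ω hω
      exact hBmove w
  have hpowA : ∀ n : ℕ, ∀ x : Ω, x ∈ A → (g0 * (z : G)) ^ n • x = u ^ n • x := by
    intro n
    induction n with
    | zero => intro x _; simp
    | succ n ih =>
      intro x hx
      rw [pow_succ, mul_smul, hhA x hx, ih _ (hAinv u x hx), pow_succ, mul_smul]
  have hpowB : ∀ n : ℕ, ∀ x : Ω, x ∉ A → (g0 * (z : G)) ^ n • x = z ^ n • x := by
    intro n
    induction n with
    | zero => intro x _; simp
    | succ n ih =>
      intro x hx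
      rw [pow_succ, mul_smul, hhB x hx, ih _ (hzA x hx), pow_succ, mul_smul]
  have hpow : (g0 * (z : G)) ^ p = 1 := by
    apply FaithfulSMul.eq_of_smul_eq_smul (α := Ω)
    intro ω
    rw [one_smul]
    by_cases hω : ω ∈ A
    · rw [hpowA p ω hω]
      obtain ⟨w, rfl⟩ := hω
      exact hu3 w
    · rw [hpowB p ω hω]
      have h1 : z ^ p = 1 := by
        have h0 := pow_orderOf_eq_one z
        rwa [hzp] at h0
      rw [h1, one_smul]
  refine ⟨g0 * (z : G), ?_, hfpf⟩
  rcases (Nat.dvd_prime hp).1 (orderOf_dvd_of_pow_eq_one hpow) with h | h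
  · exfalso
    have h1 : g0 * (z : G) = 1 := orderOf_eq_one_iff.1 h
    have h2 := hfpf ω0
    rw [h1, one_smul] at h2
    exact h2 rfl
  · rw [h]
    exact hp

end Cfsg.Agent.Lib.Helper41.Perm2C
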